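import Groth.Agent.SkOpenLib.Local
import Groth.Agent.CommAlgDim.DepthBounds
import Mathlib

/-! Serre conditions and embedded primes of quotients by regular sequences. -/

set_option autoImplicit false
set_option linter.style.haveILetI false
set_option maxHeartbeats 800000

universe u

open IsLocalRing CommAlgDim SkOpenLib RingTheory.Sequence

namespace SkEmbLib

variable {A : Type u} [CommRing A] {M : Type u} [AddCommGroup M] [Module A M]

/-- A localisation of a localised module is the localised module at the contracted prime. -/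
theorem isLocalizedModule_localized (U : Submonoid A) (P : Ideal (Localization U))
    [P.IsPrime] :
    IsLocalizedModule (P.comap (algebraMap A (Localization U))).primeCompl
      ((LocalizedModule.mkLinearMap P.primeCompl (LocalizedModule U M)).restrictScalars A ∘ₗ
        LocalizedModule.mkLinearMap U M) := by
  let Q := Localization U
  let T := Localization.AtPrime P
  let Mq := LocalizedModule U M
  let g := LocalizedModule.mkLinearMap P.primeCompl Mq
  let g₀ := LocalizedModule.mkLinearMap U M
  let r := P.comap (algebraMap A Q)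
  have hrq : ∀ c : U, (c : A) ∈ r.primeCompl := fun c hc =>
    (inferInstance : P.IsPrime).ne_top (Ideal.eq_top_of_isUnit_mem _ hc (IsLocalization.map_units Q c))
  refine ⟨fun c => ?_, fun y => ?_, fun {m m'} h => ?_⟩
  · have hu : IsUnit (algebraMap A T c) := by
      rw [IsScalarTower.algebraMap_apply A Q T]
      exact IsLocalization.map_units T (⟨algebraMap A Q c, c.2⟩ : P.primeCompl)
    refine (Module.End.isUnit_iff _).2 ?_
    have h : (fun y : LocalizedModule P.primeCompl Mq => (c : A) • y) = fun y => algebraMap A T c • y :=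
      funext fun y => (algebraMap_smul T (c : A) y).symm
    show Function.Bijective fun y : LocalizedModule P.primeCompl Mq => (c : A) • y
    rw [h]
    exact ⟨fun a b hab => hu.smul_left_cancel.1 hab, fun z => ⟨hu.unit⁻¹.1 • z, by
      show algebraMap A T c • _ = z
      rw [smul_smul, hu.mul_val_inv, one_smul]⟩⟩
  · obtain ⟨⟨w, s⟩, hw⟩ := IsLocalizedModule.surj P.primeCompl g y
    obtain ⟨⟨m, t⟩, hm⟩ := IsLocalizedModule.surj U g₀ w
    obtain ⟨⟨b, u⟩, hb⟩ := IsLocalization.surj U (s : Q)
    change (s : Q) * algebraMap A Q u = algebraMap A Q b at hb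
    change (s : Q) • y = g w at hw
    change (t : A) • w = g₀ m at hm
    have hbr : b ∈ r.primeCompl := fun hb' => by
      have h1 : (s : Q) * algebraMap A Q u ∈ P := hb ▸ hb'
      rcases (inferInstance : P.IsPrime).mem_or_mem h1 with h2 | h2
      · exact s.2 h2
      · exact hrq u h2
    refine ⟨⟨(u : A) • m, ⟨b * t, r.primeCompl.mul_mem hbr (hrq t)⟩⟩, ?_⟩
    show (b * (t : A)) • y = g (g₀ ((u : A) • m))
    rw [map_smul g₀, ← hm, smul_smul, LinearMap.map_smul_of_tower, ← hw, ← algebraMap_smul Q (b * (t : A)) y,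
      ← algebraMap_smul Q ((u : A) * t), smul_smul, map_mul, map_mul, ← hb]
    refine congrArg (fun z : Q => z • y) ?_
    ring
  · change g (g₀ m) = g (g₀ m') at h
    obtain ⟨s, hs⟩ := IsLocalizedModule.exists_of_eq (S := P.primeCompl) h
    obtain ⟨⟨b, u⟩, hb⟩ := IsLocalization.surj U (s : Q)
    change (s : Q) * algebraMap A Q u = algebraMap A Q b at hb
    have hbr : b ∈ r.primeCompl := fun hb' => by
      have h1 : (s : Q) * algebraMap A Q u ∈ P := hb ▸ hb'
      rcases (inferInstance : P.IsPrime).mem_or_mem h1 with h2 | h2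
      · exact s.2 h2
      · exact hrq u h2
    have h1 : g₀ (b • m) = g₀ (b • m') := by
      rw [map_smul, map_smul, ← algebraMap_smul Q b, ← hb, mul_comm, mul_smul,
        ← algebraMap_smul Q b (g₀ m'), ← hb, mul_comm (s : Q), mul_smul]
      exact congrArg _ hs
    obtain ⟨c, hc⟩ := IsLocalizedModule.exists_of_eq (S := U) h1
    refine ⟨⟨(c : A) * b, r.primeCompl.mul_mem (hrq c) hbr⟩, ?_⟩
    show ((c : A) * b) • m = ((c : A) * b) • m'
    rw [mul_smul, mul_smul]
    exact hc

/-- Localisations satisfy `(S_k)`. -/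
theorem hasSk_localization [IsNoetherianRing A] [Module.Finite A M] (U : Submonoid A) (k : ℕ)
    (h : LocCoh.HasSk k A M) : LocCoh.HasSk k (Localization U) (LocalizedModule U M) := by
  intro P hP
  haveI : IsLocalization.AtPrime (Localization.AtPrime P) (P.comap (algebraMap A (Localization U))) :=
    IsLocalization.isLocalization_isLocalization_atPrime_isLocalization U _ P
  haveI := isLocalizedModule_localized (M := M) U P
  obtain ⟨h1, h2⟩ := eq_of_isLocalizedModule (P.comap (algebraMap A (Localization U))) (Localization.AtPrime P)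
    ((LocalizedModule.mkLinearMap P.primeCompl (LocalizedModule U M)).restrictScalars A ∘ₗ
      LocalizedModule.mkLinearMap U M)
  rw [h1, h2]
  exact h _

/-- `(S_1)` forbids embedded associated primes. -/
theorem eq_of_le_of_hasSk [IsNoetherianRing A] [Module.Finite A M] {k : ℕ} (hk : 1 ≤ k)
    (h : LocCoh.HasSk k A M) {p q : Ideal A} (hp : p ∈ associatedPrimes A M) (hq : q ∈ associatedPrimes A M)
    (hpq : p ≤ q) : p = q := by
  haveI := hp.1
  haveI := hq.1
  by_contra hne
  have hdep : LocCoh.depth (Localization.AtPrime q) (LocalizedModule q.primeCompl M) = 0 := by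
    by_contra h0
    exact maximalIdeal_notMem_of_hasSeqIn_one ((le_depth_iff 1).1 (by
      simpa using ENat.one_le_iff_ne_zero.2 h0)) hq
  have hq' := h q
  rw [hdep] at hq'
  obtain ⟨x, hx⟩ := Module.mem_support_iff'.1 (show (⟨p, hp.1⟩ : PrimeSpectrum A) ∈ Module.support A M by
    rw [Module.support_eq_zeroLocus]; exact Submodule.annihilator_top.symm.trans_le hp.annihilator_le)
  have hmap : (p.map (algebraMap A (Localization.AtPrime q))).IsPrime :=
    IsLocalization.isPrime_of_isPrime_disjoint q.primeCompl _ p hp.1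
      (Set.disjoint_left.2 fun a ha hap => ha (hpq hap))
  have hsupp : (⟨_, hmap⟩ : PrimeSpectrum (Localization.AtPrime q)) ∈
      Module.support (Localization.AtPrime q) (LocalizedModule q.primeCompl M) := by
    refine Module.mem_support_iff'.2 ⟨LocalizedModule.mkLinearMap q.primeCompl M x, fun r hr h0 => ?_⟩
    obtain ⟨⟨a, s⟩, hs⟩ := IsLocalization.surj q.primeCompl r
    have ha : a ∉ p := fun ha => hr ((hmap.mem_or_mem (hs ▸ Ideal.mem_map_of_mem _ ha)).resolve_right fun hm =>
      hmap.ne_top (Ideal.eq_top_of_isUnit_mem _ hm (IsLocalization.map_units _ s)))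
    have h1 : LocalizedModule.mkLinearMap q.primeCompl M (a • x) = 0 := by
      rw [map_smul, ← algebraMap_smul (Localization.AtPrime q) a, ← hs, mul_comm, mul_smul, h0, smul_zero]
    obtain ⟨c, hc⟩ := (IsLocalizedModule.eq_zero_iff q.primeCompl (LocalizedModule.mkLinearMap q.primeCompl M)).1 h1
    refine hx ((c : A) * a) (fun hca => (hp.1.mem_or_mem hca).elim (fun hc' => c.2 (hpq hc')) ha) ?_
    rw [mul_smul]; exact hc
  have hmax : (⟨maximalIdeal (Localization.AtPrime q), inferInstance⟩ : PrimeSpectrum (Localization.AtPrime q)) ∈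
      Module.support (Localization.AtPrime q) (LocalizedModule q.primeCompl M) :=
    Module.mem_support_mono (IsLocalRing.le_maximalIdeal hmap.ne_top) hsupp
  have hlt : (⟨_, hsupp⟩ : Module.support (Localization.AtPrime q) (LocalizedModule q.primeCompl M)) < ⟨_, hmax⟩ := by
    refine lt_of_le_of_ne (IsLocalRing.le_maximalIdeal hmap.ne_top) fun e => hne ?_
    have e' : p.map (algebraMap A (Localization.AtPrime q)) = maximalIdeal (Localization.AtPrime q) :=
      congrArg (fun z => z.1.asIdeal) e
    rw [← IsLocalization.under_map_of_isPrime_disjoint q.primeCompl (Localization.AtPrime q) hp.1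
      (Set.disjoint_left.2 fun a ha hap => ha (hpq hap)), e', Localization.AtPrime.under_maximalIdeal]
  have h2 : (1 : WithBot ℕ∞) ≤ Module.supportDim (Localization.AtPrime q) (LocalizedModule q.primeCompl M) :=
    by
      let l : LTSeries (Module.support (Localization.AtPrime q) (LocalizedModule q.primeCompl M)) :=
        RelSeries.snoc (RelSeries.singleton _ ⟨_, hsupp⟩) ⟨_, hmax⟩ hlt
      exact Order.LTSeries.length_le_krullDim l
  have h3 := (le_min (show (1 : WithBot ℕ∞) ≤ (k : WithBot ℕ∞) by exact_mod_cast hk) h2).trans hq'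
  exact absurd h3 (by norm_num)

/-- A regular sequence detecting a failure of Serre's inequality at `p`. -/
theorem exists_witness [IsNoetherianRing A] (p : Ideal A) [p.IsPrime] : ∀ (n : ℕ) (M : Type u) [AddCommGroup M]
    [Module A M] [Module.Finite A M],
    HasSeqIn (maximalIdeal (Localization.AtPrime p)) (LocalizedModule p.primeCompl M) n →
    ¬ HasSeqIn (maximalIdeal (Localization.AtPrime p)) (LocalizedModule p.primeCompl M) (n + 1) →
    ((n + 1 : ℕ) : WithBot ℕ∞) ≤ sdim M p →
    ∃ rs : List A, rs.length = n ∧ IsWeaklyRegular (LocalizedModule p.primeCompl M) rs ∧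
      p ∈ associatedPrimes A (M ⧸ (Ideal.ofList rs • (⊤ : Submodule A M))) ∧
      (1 : WithBot ℕ∞) ≤ sdim (M ⧸ (Ideal.ofList rs • (⊤ : Submodule A M))) p
  | 0, M, _, _, _, _, hn, hd => by
    refine ⟨[], rfl, RingTheory.Sequence.IsWeaklyRegular.nil _ _, ?_, ?_⟩
    all_goals
      let e : (M ⧸ (Ideal.ofList ([] : List A) • (⊤ : Submodule A M))) ≃ₗ[A] M :=
        Submodule.quotEquivOfEqBot _ (by rw [Ideal.ofList_nil, Submodule.bot_smul])
    · rw [LinearEquiv.AssociatedPrimes.eq e]
      rw [hasSeqIn_one_iff] at hn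
      push Not at hn
      obtain ⟨Q, hQ, hle⟩ := hn
      have hQe : Q = maximalIdeal (Localization.AtPrime p) := le_antisymm (le_maximalIdeal hQ.1.ne_top) hle
      subst hQe
      have := Module.associatedPrimes.comap_mem_associatedPrimes_of_mem_associatedPrimes_of_isLocalizedModule_of_fg
        p.primeCompl (LocalizedModule.mkLinearMap p.primeCompl M) _ hQ (IsNoetherian.noetherian _)
      rwa [← Ideal.under_def, Localization.AtPrime.under_maximalIdeal] at this
    · rw [sdim, Module.supportDim_eq_of_equiv
        (IsLocalizedModule.mapEquiv p.primeCompl (LocalizedModule.mkLinearMap p.primeCompl _)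
          (LocalizedModule.mkLinearMap p.primeCompl M) (Localization.AtPrime p) e)]
      simpa [sdim] using hd
  | n + 1, M, _, _, _, hn, hn', hd => by
    obtain ⟨y, hy, hyreg⟩ := exists_isSMulRegular_mem ((hasSeqIn_one_iff _).1 (hn.mono (Nat.succ_pos n)))
    obtain ⟨⟨a, s⟩, hs⟩ := IsLocalization.surj p.primeCompl y
    have hau : algebraMap A (Localization.AtPrime p) a ∈ maximalIdeal (Localization.AtPrime p) :=
      hs ▸ Ideal.mul_mem_right _ _ hy
    have hareg : IsSMulRegular (LocalizedModule p.primeCompl M) (algebraMap A (Localization.AtPrime p) a) :=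
      hs ▸ hyreg.mul ((IsLocalization.map_units (Localization.AtPrime p) s).isSMulRegular _)
    obtain ⟨e⟩ := exists_quot_equiv (M := M) p a
    have h1 := HasSeqIn.congr e.symm (HasSeqIn.quotSMulTop hau hareg hn)
    have h2 : ¬ HasSeqIn (maximalIdeal (Localization.AtPrime p))
        (LocalizedModule p.primeCompl (QuotSMulTop a M)) (n + 1) := fun h =>
      hn' (hasSeqIn_succ_of_cons hau hareg (HasSeqIn.congr e h))
    have h3 : ((n + 1 : ℕ) : WithBot ℕ∞) ≤ sdim (QuotSMulTop a M) p := by
      rw [sdim, Module.supportDim_eq_of_equiv e]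
      rw [sdim, ← Module.supportDim_quotSMulTop_succ_eq_supportDim hareg hau] at hd
      revert hd
      generalize Module.supportDim (Localization.AtPrime p)
        (QuotSMulTop (algebraMap A (Localization.AtPrime p) a) (LocalizedModule p.primeCompl M)) = d
      intro h
      induction d using WithBot.recBotCoe with
      | bot => simp at h
      | coe d =>
        have h' : ((n + 1 + 1 : ℕ) : ℕ∞) ≤ d + 1 := WithBot.coe_le_coe.1 h
        refine WithBot.coe_le_coe.2 ?_
        induction d using ENat.recTopCoe with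
        | top => exact le_top
        | coe j =>
          have : n + 1 + 1 ≤ j + 1 := by exact_mod_cast h'
          exact Nat.cast_le.2 (show n + 1 ≤ j by omega)
    obtain ⟨rs, hl, hreg, hass, hdim⟩ := exists_witness p n (QuotSMulTop a M) h1 h2 h3
    let E := Submodule.quotOfListConsSMulTopEquivQuotSMulTopInner M a rs
    refine ⟨a :: rs, by simp [hl], ?_, ?_, ?_⟩
    · have hra : IsWeaklyRegular (LocalizedModule p.primeCompl M)
          ((a :: rs).map (algebraMap A (Localization.AtPrime p))) := by
        rw [List.map_cons, isWeaklyRegular_cons_iff]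
        refine ⟨hareg, (LinearEquiv.isWeaklyRegular_congr e _).1 ?_⟩
        rw [isWeaklyRegular_map_algebraMap_iff]
        exact hreg
      exact (isWeaklyRegular_map_algebraMap_iff _ _ _).1 hra
    · rw [LinearEquiv.AssociatedPrimes.eq E]; exact hass
    · rw [sdim, Module.supportDim_eq_of_equiv
        (IsLocalizedModule.mapEquiv p.primeCompl (LocalizedModule.mkLinearMap p.primeCompl _)
          (LocalizedModule.mkLinearMap p.primeCompl _) (Localization.AtPrime p) E)]
      exact hdim

/-- Membership in `I • ⊤` of a localised module. -/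
theorem exists_smul_mem (U : Submonoid A) {N : Type u} [AddCommGroup N] [Module A N] (f : M →ₗ[A] N)
    [IsLocalizedModule U f] (I : Ideal A) (m : M) (h : f m ∈ I • (⊤ : Submodule A N)) :
    ∃ c : U, (c : A) • m ∈ I • (⊤ : Submodule A M) := by
  rw [← Submodule.localized₀_top U f, ← Submodule.localized₀_smul U f] at h
  obtain ⟨m', hm', s, hs⟩ := h
  rw [IsLocalizedModule.mk'_eq_iff, Submonoid.smul_def, ← map_smul] at hs
  obtain ⟨c, hc⟩ := (IsLocalizedModule.eq_iff_exists U f).1 hs
  refine ⟨c * s, ?_⟩
  rw [Submonoid.coe_mul, mul_smul, ← Submonoid.smul_def c, ← hc]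
  exact Submodule.smul_mem _ _ hm'

/-- Regular sequences at a prime are regular on a neighbourhood. -/
theorem exists_away_regular [IsNoetherianRing A] [Module.Finite A M] (p : Ideal A) [p.IsPrime] (rs : List A)
    (h : IsWeaklyRegular (LocalizedModule p.primeCompl M) rs) :
    ∃ g, g ∉ p ∧ IsWeaklyRegular (LocalizedModule (Submonoid.powers g) M) rs := by
  classical
  have hker : ∀ i : Fin rs.length, ∃ g, g ∉ p ∧ ∀ m : M,
      rs[i] • m ∈ Ideal.ofList (rs.take i) • (⊤ : Submodule A M) →
        g • m ∈ Ideal.ofList (rs.take i) • (⊤ : Submodule A M) := by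
    intro i
    let J := Ideal.ofList (rs.take i) • (⊤ : Submodule A M)
    let K : Submodule A M := J.comap (LinearMap.lsmul A M rs[i])
    obtain ⟨T, hT⟩ : K.FG := IsNoetherian.noetherian K
    have hx : ∀ m : M, m ∈ K → ∃ c : p.primeCompl, (c : A) • m ∈ J := by
      intro m hm
      have hreg := h.regular_mod_prev i i.2
      have h1 : rs[i] • (LocalizedModule.mkLinearMap p.primeCompl M m) ∈
          Ideal.ofList (rs.take i) • (⊤ : Submodule A (LocalizedModule p.primeCompl M)) := by
        rw [← map_smul]
        have : (Ideal.ofList (rs.take i) • (⊤ : Submodule A M)).map (LocalizedModule.mkLinearMap p.primeCompl M) ≤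
            Ideal.ofList (rs.take i) • (⊤ : Submodule A (LocalizedModule p.primeCompl M)) := by
          rw [Submodule.map_smul'']; exact Submodule.smul_mono le_rfl le_top
        exact this (Submodule.mem_map_of_mem hm)
      have h2 : LocalizedModule.mkLinearMap p.primeCompl M m ∈
          Ideal.ofList (rs.take i) • (⊤ : Submodule A (LocalizedModule p.primeCompl M)) := by
        rw [← Submodule.Quotient.mk_eq_zero] at h1 ⊢
        rw [Submodule.Quotient.mk_smul] at h1
        exact hreg.right_eq_zero_of_smul h1
      exact exists_smul_mem p.primeCompl _ _ m h2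
    choose c hc using fun m : {m // m ∈ T} => hx m.1 (hT ▸ Submodule.subset_span m.2)
    refine ⟨∏ m : {m // m ∈ T}, (c m : A), fun hg => ?_, fun m hm => ?_⟩
    · obtain ⟨j, -, hj⟩ := ((‹p.IsPrime›).prod_mem_iff).1 hg
      exact (c j).2 hj
    · have hle : K ≤ J.comap (LinearMap.lsmul A M (∏ m : {m // m ∈ T}, (c m : A))) := by
        rw [← hT, Submodule.span_le]
        intro m hm
        show (∏ m : {m // m ∈ T}, (c m : A)) • m ∈ J
        obtain ⟨d, hd⟩ := Finset.dvd_prod_of_mem (fun m : {m // m ∈ T} => (c m : A)) (Finset.mem_univ ⟨m, hm⟩)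
        rw [hd, mul_comm, mul_smul]
        exact Submodule.smul_mem _ _ (hc ⟨m, hm⟩)
      exact hle hm
  choose g hg hgk using hker
  refine ⟨∏ i, g i, fun hgp => ?_, ?_⟩
  · obtain ⟨j, -, hj⟩ := ((‹p.IsPrime›).prod_mem_iff).1 hgp
    exact hg j hj
  refine ⟨fun i hi => isSMulRegular_iff_right_eq_zero_of_smul.2 fun z hz => ?_⟩
  obtain ⟨z, rfl⟩ := Submodule.Quotient.mk_surjective _ z
  rw [← Submodule.Quotient.mk_smul, Submodule.Quotient.mk_eq_zero] at hz
  rw [Submodule.Quotient.mk_eq_zero]
  let U := Submonoid.powers (∏ i, g i)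
  let f := LocalizedModule.mkLinearMap U M
  obtain ⟨⟨m, s⟩, hms⟩ := IsLocalizedModule.surj U f z
  change (s : A) • z = f m at hms
  have h1 : f (rs[i] • m) ∈ Ideal.ofList (rs.take i) • (⊤ : Submodule A (LocalizedModule U M)) := by
    rw [map_smul, ← hms, smul_comm]
    exact Submodule.smul_mem _ _ hz
  obtain ⟨c, hc⟩ := exists_smul_mem U f _ _ h1
  rw [smul_comm] at hc
  have h2 := hgk ⟨i, hi⟩ _ hc
  obtain ⟨d, hd⟩ := Finset.dvd_prod_of_mem g (Finset.mem_univ (⟨i, hi⟩ : Fin rs.length))
  have h3 : ((∏ j, g j) * c * s : A) • z ∈ Ideal.ofList (rs.take i) • (⊤ : Submodule A (LocalizedModule U M)) := by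
    have h4 : (∏ j, g j) • ((c : A) • m) ∈ Ideal.ofList (rs.take i) • (⊤ : Submodule A M) := by
      rw [hd, mul_comm, mul_smul]; exact Submodule.smul_mem _ _ h2
    have h5 : f ((∏ j, g j) • ((c : A) • m)) ∈
        Ideal.ofList (rs.take i) • (⊤ : Submodule A (LocalizedModule U M)) := by
      have : (Ideal.ofList (rs.take i) • (⊤ : Submodule A M)).map f ≤
          Ideal.ofList (rs.take i) • (⊤ : Submodule A (LocalizedModule U M)) := by
        rw [Submodule.map_smul'']; exact Submodule.smul_mono le_rfl le_top
      exact this (Submodule.mem_map_of_mem h4)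
    rwa [map_smul, map_smul, ← hms, smul_smul, smul_smul] at h5
  obtain ⟨u, hu⟩ : ∃ u : U, (u : A) = (∏ j, g j) * c * s :=
    ⟨⟨_, Submonoid.mem_powers _⟩ * c * s, rfl⟩
  rw [← hu] at h3
  rw [← algebraMap_smul (Localization U) (u : A)] at h3
  have h6 : IsUnit (algebraMap A (Localization U) (u : A)) := IsLocalization.map_units _ u
  have hstab : ∀ (r : Localization U) (x : LocalizedModule U M),
      x ∈ Ideal.ofList (rs.take i) • (⊤ : Submodule A (LocalizedModule U M)) →
        r • x ∈ Ideal.ofList (rs.take i) • (⊤ : Submodule A (LocalizedModule U M)) := by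
    intro r x hx
    refine Submodule.smul_induction_on hx (fun a ha y _ => ?_) (fun y y' hy hy' => ?_)
    · rw [smul_comm]; exact Submodule.smul_mem_smul ha trivial
    · rw [smul_add]; exact Submodule.add_mem _ hy hy'
  have h7 := hstab (↑h6.unit⁻¹ : Localization U) _ h3
  rwa [smul_smul, IsUnit.val_inv_mul, one_smul] at h7

end SkEmbLib
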